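import Mathlib
import Groth.Agent.SmoothRegLib.Alg

/-!
The Jacobian criterion for local quotients by finitely many elements.
-/

set_option autoImplicit false
set_option linter.style.haveILetI false
universe u

open IsLocalRing TensorProduct KaehlerDifferential

namespace Groth.Agent.JacLocusLib

variable {R P T : Type u} [CommRing R] [CommRing P] [CommRing T] [IsLocalRing P] [IsLocalRing T]
  [Algebra R P] [Algebra R T] [Algebra P T] [IsScalarTower R P T]
  {c : ℕ} (h : Fin c → P)

variable (R T) in
/-- The differentials of the generators. -/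
noncomputable def psi : (Fin c → T) →ₗ[T] T ⊗[P] Ω[P⁄R] :=
  Fintype.linearCombination T fun i => 1 ⊗ₜ D R P (h i)

variable (hf : Function.Surjective (algebraMap P T))
  (hker : RingHom.ker (algebraMap P T) = Ideal.span (Set.range h))

omit [IsLocalRing P] [IsLocalRing T] in
include hf hker in
theorem exact_psi : Function.Exact (psi R T h) (mapBaseChange R P T) := by
  have hk : ∀ i, algebraMap P T (h i) = 0 := fun i => by
    rw [← RingHom.mem_ker, hker]; exact Ideal.subset_span ⟨i, rfl⟩
  intro z
  rw [exact_kerCotangentToTensor_mapBaseChange R P T hf z]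
  constructor
  · rintro ⟨y, rfl⟩
    obtain ⟨⟨x, hx⟩, rfl⟩ := (RingHom.ker (algebraMap P T)).toCotangent_surjective y
    obtain ⟨a, rfl⟩ := (Submodule.mem_span_range_iff_exists_fun P).1 (hker ▸ hx : x ∈ Ideal.span (Set.range h))
    refine ⟨fun i => algebraMap P T (a i), ?_⟩
    rw [kerCotangentToTensor_toCotangent, psi, Fintype.linearCombination_apply, map_sum, TensorProduct.tmul_sum]
    refine Finset.sum_congr rfl fun i _ => ?_
    rw [smul_eq_mul, Derivation.leibniz, TensorProduct.tmul_add, TensorProduct.tmul_smul, TensorProduct.tmul_smul,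
      algebraMap_smul, ← algebraMap_smul T (h i), hk i, zero_smul, add_zero]
  · rintro ⟨a, rfl⟩
    rw [psi, Fintype.linearCombination_apply]
    refine Submodule.sum_mem (p := LinearMap.range (kerCotangentToTensor R P T)) fun i _ => ?_
    obtain ⟨b, hb⟩ := hf (a i)
    rw [← hb, algebraMap_smul]
    exact Submodule.smul_mem _ _ ⟨(RingHom.ker (algebraMap P T)).toCotangent ⟨h i, hk i⟩, rfl⟩

include hf hker in
theorem finrank_range_add [Module.Free P Ω[P⁄R]] [Module.Finite P Ω[P⁄R]] :
    Module.finrank (ResidueField T) (LinearMap.range ((psi R T h).baseChange (ResidueField T))) +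
      Module.finrank (ResidueField T) (ResidueField T ⊗[T] Ω[T⁄R]) = Module.finrank P Ω[P⁄R] := by
  let k := ResidueField T
  let g := (mapBaseChange R P T).baseChange k
  have hex : Function.Exact ((psi R T h).baseChange k) g :=
    lTensor_exact k (exact_psi h hf hker) (mapBaseChange_surjective R P T hf)
  have hsur : Function.Surjective g :=
    LinearMap.lTensor_surjective k (mapBaseChange_surjective R P T hf)
  have h1 := LinearMap.finrank_range_add_finrank_ker g
  have e : Module.finrank k (k ⊗[T] (T ⊗[P] Ω[P⁄R])) = Module.finrank P Ω[P⁄R] := by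
    rw [Module.finrank_baseChange, Module.finrank_baseChange]
  rw [LinearMap.range_eq_top.2 hsur, finrank_top, LinearMap.exact_iff.1 hex, e] at h1
  change Module.finrank k (LinearMap.range ((psi R T h).baseChange k)) + Module.finrank k (k ⊗[T] Ω[T⁄R]) = _
  omega

/-- The coefficient map onto the conormal module. -/
noncomputable def coordMap (hf : Function.Surjective (algebraMap P T))
    (hk : ∀ i, h i ∈ RingHom.ker (algebraMap P T)) (i : Fin c) : T →ₗ[P] (RingHom.ker (algebraMap P T)).Cotangent :=
  (Submodule.liftQ (LinearMap.ker (Algebra.linearMap P T))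
    (LinearMap.toSpanSingleton P _ ((RingHom.ker (algebraMap P T)).toCotangent ⟨h i, hk i⟩))
    (fun x hx => by
      show x • (RingHom.ker (algebraMap P T)).toCotangent ⟨h i, hk i⟩ = 0
      rw [← map_smul, Ideal.toCotangent_eq_zero, pow_two]
      exact Ideal.mul_mem_mul hx (hk i))).comp
    (LinearMap.quotKerEquivOfSurjective (Algebra.linearMap P T) hf).symm.toLinearMap

include hf hker in
/-- If the differentials of the generators are independent then the quotient is formally smooth. -/
theorem formallySmooth_of_finrank_le [Algebra.FormallySmooth R P] [Module.Free P Ω[P⁄R]] [Module.Finite P Ω[P⁄R]]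
    (hle : Module.finrank (ResidueField T) (ResidueField T ⊗[T] Ω[T⁄R]) + c ≤ Module.finrank P Ω[P⁄R]) :
    Algebra.FormallySmooth R T := by
  let k := ResidueField T
  have hk : ∀ i, h i ∈ RingHom.ker (algebraMap P T) := fun i => by
    rw [hker]; exact Ideal.subset_span ⟨i, rfl⟩
  let ψk := (psi R T h).baseChange k
  have hr := finrank_range_add (R := R) h hf hker
  have hinj : Function.Injective ψk := by
    rw [← LinearMap.ker_eq_bot, ← Submodule.finrank_eq_zero]
    have h1 := LinearMap.finrank_range_add_finrank_ker ψk
    rw [Module.finrank_baseChange, Module.finrank_fin_fun] at h1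
    show Module.finrank k (LinearMap.ker ψk) = 0
    have h2 : Module.finrank k (LinearMap.range ψk) + Module.finrank k (k ⊗[T] Ω[T⁄R]) = Module.finrank P Ω[P⁄R] := hr
    change Module.finrank k (k ⊗[T] Ω[T⁄R]) + c ≤ _ at hle
    omega
  obtain ⟨l, hl⟩ := (IsLocalRing.split_injective_iff_lTensor_residueField_injective (psi R T h)).mpr hinj
  rw [Algebra.FormallySmooth.iff_split_injection (R := R) hf]
  let π : (Fin c → T) →ₗ[P] (RingHom.ker (algebraMap P T)).Cotangent :=
    ∑ i, (coordMap h hf hk i).comp (LinearMap.proj i)
  refine ⟨π.comp (l.restrictScalars P), LinearMap.ext fun y => ?_⟩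
  obtain ⟨⟨x, hx⟩, rfl⟩ := (RingHom.ker (algebraMap P T)).toCotangent_surjective y
  obtain ⟨a, rfl⟩ := (Submodule.mem_span_range_iff_exists_fun P).1 (hker ▸ hx : x ∈ Ideal.span (Set.range h))
  have hψ : psi R T h (fun i => algebraMap P T (a i)) = 1 ⊗ₜ D R P (∑ i, a i • h i) := by
    rw [psi, Fintype.linearCombination_apply, map_sum, TensorProduct.tmul_sum]
    refine Finset.sum_congr rfl fun i _ => ?_
    rw [smul_eq_mul, Derivation.leibniz, TensorProduct.tmul_add, TensorProduct.tmul_smul, TensorProduct.tmul_smul,
      algebraMap_smul, ← algebraMap_smul T (h i), show algebraMap P T (h i) = 0 from hk i, zero_smul, add_zero]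
  have hl' := LinearMap.congr_fun hl (fun i => algebraMap P T (a i))
  rw [LinearMap.comp_apply, hψ, LinearMap.id_apply] at hl'
  show π (l (kerCotangentToTensor R P T ((RingHom.ker (algebraMap P T)).toCotangent ⟨_, hx⟩))) = _
  rw [kerCotangentToTensor_toCotangent, hl', LinearMap.sum_apply]
  have hcoord : ∀ i, coordMap h hf hk i (algebraMap P T (a i)) =
      a i • (RingHom.ker (algebraMap P T)).toCotangent ⟨h i, hk i⟩ := fun i => by
    have e : (LinearMap.quotKerEquivOfSurjective (Algebra.linearMap P T) hf).symm (algebraMap P T (a i)) =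
        Submodule.Quotient.mk (a i) := by
      rw [LinearEquiv.symm_apply_eq]; rfl
    rw [coordMap, LinearMap.comp_apply, LinearEquiv.coe_coe, e]
    rfl
  simp only [LinearMap.comp_apply, LinearMap.proj_apply, hcoord, LinearMap.id_apply, ← map_smul, ← map_sum]
  congr 1
  apply Subtype.ext
  simp

include hf hker in
/-- For minimal generators of a formally smooth quotient the differentials are independent. -/
theorem finrank_add_le [Algebra.FormallySmooth R P] [Module.Free P Ω[P⁄R]] [Module.Finite P Ω[P⁄R]]
    [Algebra.FormallySmooth R T]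
    (hmin : ∀ a : Fin c → P, ∑ i, a i * h i = 0 → ∀ i, a i ∈ maximalIdeal P) :
    Module.finrank (ResidueField T) (ResidueField T ⊗[T] Ω[T⁄R]) + c ≤ Module.finrank P Ω[P⁄R] := by
  let k := ResidueField T
  let I := RingHom.ker (algebraMap P T)
  have hk : ∀ i, h i ∈ I := fun i => by
    show h i ∈ RingHom.ker (algebraMap P T)
    rw [hker]; exact Ideal.subset_span ⟨i, rfl⟩
  haveI : IsLocalHom (algebraMap P T) := IsLocalHom.of_surjective _ hf
  have hPk : Function.Surjective (algebraMap P k) := by
    rw [IsScalarTower.algebraMap_eq P T k]; exact residue_surjective.comp hf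
  have hm : RingHom.ker (Algebra.ofId P k) = maximalIdeal P :=
    IsLocalRing.eq_maximalIdeal (RingHom.ker_isMaximal_of_surjective (algebraMap P k) hPk)
  obtain ⟨l, hl⟩ := (Algebra.FormallySmooth.iff_split_injection (R := R) hf).1 inferInstance
  have hinj : Function.Injective ((psi R T h).baseChange k) := by
    rw [injective_iff_map_eq_zero]
    intro z hz
    obtain ⟨t, rfl⟩ := TensorProduct.mk_surjective T (Fin c → T) k residue_surjective z
    choose a ha using fun i => hf (t i)
    suffices hmem : ∀ i, a i ∈ maximalIdeal P by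
      refine (SmoothRegLib.one_tmul_eq_zero_iff (P := T) (K := k) residue_surjective t).2 ?_
      rw [show t = ∑ i, t i • Pi.single i (1 : T) from pi_eq_sum_univ' t]
      refine Submodule.sum_mem _ fun i _ => Submodule.smul_mem_smul ?_ trivial
      show algebraMap T k (t i) = 0
      rw [← ha i]
      rw [← IsScalarTower.algebraMap_apply P T k, ← RingHom.mem_ker]
      exact hm.ge (hmem i)
    rw [TensorProduct.mk_apply, LinearMap.baseChange_tmul,
      SmoothRegLib.one_tmul_eq_zero_iff (P := T) (K := k) residue_surjective] at hz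
    have hψ : psi R T h t = kerCotangentToTensor R P T (I.toCotangent (∑ i, a i • ⟨h i, hk i⟩)) := by
      rw [map_sum, map_sum, psi, Fintype.linearCombination_apply]
      refine Finset.sum_congr rfl fun i _ => ?_
      rw [map_smul, map_smul, kerCotangentToTensor_toCotangent, ← ha i, algebraMap_smul]
    let χ : I.Cotangent →ₗ[P] k ⊗[P] I :=
      Ideal.Cotangent.lift (TensorProduct.mk P k I 1) fun x y => by
        show (1 : k) ⊗ₜ[P] ((x : P) • y) = 0
        rw [TensorProduct.tmul_smul, ← IsScalarTower.algebraMap_smul k (x : P),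
          show algebraMap P k (x : P) = 0 from ?_, zero_smul]
        rw [IsScalarTower.algebraMap_apply P T k, show algebraMap P T (x : P) = 0 from x.2, map_zero]
    have h0 : ∀ w ∈ RingHom.ker (Algebra.ofId T k) • (⊤ : Submodule T (T ⊗[P] Ω[P⁄R])),
        χ (l w) = 0 := by
      intro w hw
      refine Submodule.smul_induction_on hw (fun s hs y _ => ?_) fun x y hx hy => by rw [map_add, map_add, hx, hy, add_zero]
      obtain ⟨s, rfl⟩ := hf s
      rw [algebraMap_smul, map_smul, map_smul, ← IsScalarTower.algebraMap_smul k s,
        show algebraMap P k s = 0 from (IsScalarTower.algebraMap_apply P T k s).trans hs, zero_smul]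
    have h1 := h0 _ hz
    rw [hψ, ← LinearMap.comp_apply (f := l), hl, LinearMap.id_apply, Ideal.Cotangent.lift_toCotangent] at h1
    have h2 := (SmoothRegLib.one_tmul_eq_zero_iff (P := P) (K := k) hPk _).1 h1
    rw [SmoothRegLib.mem_smul_top_iff_coe, hm] at h2
    simp only [Submodule.coe_sum, Submodule.coe_smul, smul_eq_mul] at h2
    have hmem : (∑ i, a i * h i) ∈ maximalIdeal P • Submodule.span P (Set.range h) := by
      rw [smul_eq_mul]
      exact (congrArg (maximalIdeal P * ·) hker).le h2
    obtain ⟨b, hb, hsum⟩ : ∃ b : Fin c → P, (∀ i, b i ∈ maximalIdeal P) ∧ ∑ i, b i * h i = ∑ i, a i * h i := by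
      obtain ⟨b, hb, hs⟩ := (Submodule.mem_ideal_smul_span_iff_exists_sum (maximalIdeal P) h _).1 hmem
      refine ⟨b, hb, ?_⟩
      rw [← hs]
      exact (Finsupp.sum_fintype b (fun i c => c • h i) fun i => zero_smul P (h i)).symm
    intro i
    have h3 := hmin (fun i => a i - b i) (by simp only [sub_mul, Finset.sum_sub_distrib, hsum, sub_self]) i
    simpa using add_mem h3 (hb i)
  have h1 := LinearMap.finrank_range_of_inj hinj
  rw [Module.finrank_baseChange, Module.finrank_fin_fun] at h1
  have h2 : Module.finrank k (LinearMap.range ((psi R T h).baseChange k)) + Module.finrank k (k ⊗[T] Ω[T⁄R]) = _ :=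
    finrank_range_add (R := R) h hf hker
  change Module.finrank k (k ⊗[T] Ω[T⁄R]) + c ≤ _
  omega

/-- Differentials change only by an isomorphism when the base is localized. -/
theorem kaehler_map_bijective {A A' B : Type u} [CommRing A] [CommRing A'] [CommRing B] [Algebra A A'] [Algebra A B]
    [Algebra A' B] [IsScalarTower A A' B] [Algebra.FormallyUnramified A A'] :
    Function.Bijective (KaehlerDifferential.map A A' B B) := by
  refine ⟨(injective_iff_map_eq_zero _).2 fun a ha => ?_, map_surjective A A' B⟩
  obtain ⟨b, rfl⟩ := ((exact_mapBaseChange_map A A' B) a).1 ha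
  rw [show b = 0 from ?_, map_zero]
  clear ha
  induction b using TensorProduct.induction_on with
  | zero => rfl
  | tmul t w => rw [Subsingleton.elim w 0, TensorProduct.tmul_zero]
  | add x y hx hy => rw [hx, hy, add_zero]

omit [IsLocalRing P] in
/-- A module is generated by `p` elements iff its fibre has dimension at most `p`. -/
theorem exists_span_iff_finrank_le (M : Type u) [AddCommGroup M] [Module T M] [Module.Finite T M] (p : ℕ) :
    (∃ g : Fin p → M, Submodule.span T (Set.range g) = ⊤) ↔
      Module.finrank (ResidueField T) (ResidueField T ⊗[T] M) ≤ p := by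
  let k := ResidueField T
  constructor
  · rintro ⟨g, hg⟩
    have hsur : Function.Surjective ((Fintype.linearCombination T g).baseChange k) :=
      LinearMap.lTensor_surjective k (LinearMap.range_eq_top.1 ((Fintype.range_linearCombination T g).trans hg))
    have h := LinearMap.finrank_le_finrank_of_surjective hsur
    rwa [Module.finrank_baseChange (R := k) (M' := Fin p → T), Module.finrank_fin_fun] at h
  · intro hle
    let b := Module.finBasis k (k ⊗[T] M)
    choose m hm using fun j => TensorProduct.mk_surjective T M k residue_surjective (b j)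
    let g : Fin p → M := fun j => if hj : (j : ℕ) < Module.finrank k (k ⊗[T] M) then m ⟨j, hj⟩ else 0
    refine ⟨g, IsLocalRing.map_tensorProduct_mk_eq_top.mp (eq_top_iff.2 ?_)⟩
    rintro z -
    have hz : z ∈ Submodule.span k (Set.range b) := b.span_eq.symm ▸ trivial
    induction hz using Submodule.span_induction with
    | mem z hz =>
      obtain ⟨j, rfl⟩ := hz
      exact ⟨m j, Submodule.subset_span ⟨⟨j, j.2.trans_le hle⟩, by simp [g]⟩, hm j⟩
    | zero => exact zero_mem _
    | add a b _ _ ha hb => exact add_mem ha hb
    | smul r a _ ha =>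
      obtain ⟨r, rfl⟩ := residue_surjective r
      show algebraMap T k r • a ∈ _
      rw [algebraMap_smul]
      exact Submodule.smul_mem _ _ ha

end Groth.Agent.JacLocusLib
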