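import Groth.Agent.JacLocusLib.Fibre
import Groth.Agent.AdaptCoordLib.Alg
import Mathlib.RingTheory.RingHom.LocallyStandardSmooth

/-!
Embedding an algebra near a prime into a smooth algebra of minimal relative dimension.
-/

set_option autoImplicit false
set_option linter.style.haveILetI false
set_option backward.isDefEq.respectTransparency false

universe u

open IsLocalRing TensorProduct KaehlerDifferential

namespace Groth.Agent.JacLocusLib

/-- Polynomial rings are standard smooth of relative dimension the number of variables. -/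
theorem stdSmooth_mvPolynomial (R : Type u) [CommRing R] (m : Type u) [Finite m] :
    Algebra.IsStandardSmoothOfRelativeDimension (Nat.card m) R (MvPolynomial m R) := by
  classical
  let v : Empty → MvPolynomial m R := fun e => e.elim
  let P := Algebra.PreSubmersivePresentation.naive (v := v) (fun e => e.elim) (fun e => e.elim)
  let S : Algebra.SubmersivePresentation R (MvPolynomial m R ⧸ (Ideal.span <| Set.range v)) m Empty :=
    { toPreSubmersivePresentation := P
      jacobian_isUnit := by
        rw [Algebra.PreSubmersivePresentation.jacobian_eq_jacobiMatrix_det]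
        simp }
  haveI : Algebra.IsStandardSmoothOfRelativeDimension (Nat.card m) R (MvPolynomial m R ⧸ (Ideal.span <| Set.range v)) :=
    S.isStandardSmoothOfRelativeDimension (by simp [Algebra.Presentation.dimension])
  exact Algebra.IsStandardSmoothOfRelativeDimension.of_algEquiv (Nat.card m)
    ((Ideal.quotientEquivAlgOfEq R (by simp : Ideal.span (Set.range v) = ⊥)).trans (AlgEquiv.quotientBot R _))

variable (A : Type u) [CommRing A]

/-- The local ring of a polynomial ring has differentials free on the variables. -/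
theorem kaehler_data_mvPolynomial (σ : Type u) [Finite σ] (q : Ideal (MvPolynomial σ A)) [q.IsPrime] :
    Module.Free (Localization.AtPrime q) Ω[Localization.AtPrime q⁄A] ∧
      Module.Finite (Localization.AtPrime q) Ω[Localization.AtPrime q⁄A] ∧
      Module.finrank (Localization.AtPrime q) Ω[Localization.AtPrime q⁄A] = Nat.card σ := by
  let T := Localization.AtPrime q
  haveI : Algebra.FormallyEtale (MvPolynomial σ A) T := .of_isLocalization q.primeCompl
  let b := ((KaehlerDifferential.mvPolynomialBasis A σ).baseChange T).map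
    (KaehlerDifferential.tensorKaehlerEquivOfFormallyEtale A (MvPolynomial σ A) T)
  exact ⟨.of_basis b, Module.Finite.of_basis b, Module.finrank_eq_nat_card_basis b⟩

/-- The range of the relation map is spanned by the differentials of the relations. -/
theorem range_psi_eq_span {R P T : Type u} [CommRing R] [CommRing P] [CommRing T] [Algebra R P] [Algebra R T]
    [Algebra P T] [IsScalarTower R P T] [IsLocalRing P] [IsLocalRing T] {c : ℕ} (h : Fin c → P) :
    LinearMap.range ((psi R T h).baseChange (ResidueField T)) =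
      Submodule.span (ResidueField T) (Set.range fun i =>
        (1 : ResidueField T) ⊗ₜ[T] ((1 : T) ⊗ₜ[P] KaehlerDifferential.D R P (h i))) := by
  classical
  rw [LinearMap.range_eq_map, ← ((Pi.basisFun T (Fin c)).baseChange (ResidueField T)).span_eq, Submodule.map_span,
    ← Set.range_comp]
  congr 2
  funext i
  rw [Function.comp_apply, Module.Basis.baseChange_apply, LinearMap.baseChange_tmul, Pi.basisFun_apply, psi,
    Fintype.linearCombination_apply_single, one_smul]

/-- Independence of differentials descends from the residue field of a quotient of a local ring. -/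
theorem linearIndependent_of_quotient {T T' M : Type u} [CommRing T] [CommRing T'] [IsLocalRing T] [IsLocalRing T']
    [Algebra T T'] [IsLocalHom (algebraMap T T')] [AddCommGroup M] [Module T M] {ι : Type*} (w : ι → M)
    (h : LinearIndependent (ResidueField T') fun i => (1 : ResidueField T') ⊗ₜ[T'] ((1 : T') ⊗ₜ[T] w i)) :
    LinearIndependent (ResidueField T) fun i => (1 : ResidueField T) ⊗ₜ[T] w i := by
  classical
  rw [linearIndependent_iff']
  intro s c hc i hi
  choose a ha using fun i => residue_surjective (c i)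
  have h1 : (1 : ResidueField T) ⊗ₜ[T] (∑ j ∈ s, a j • w j) = 0 := by
    rw [TensorProduct.tmul_sum, ← hc]
    refine Finset.sum_congr rfl fun j _ => ?_
    rw [TensorProduct.tmul_smul, ← ha j, ← IsScalarTower.algebraMap_smul (ResidueField T) (a j)]
    rfl
  have hk : Function.Surjective (algebraMap T (ResidueField T)) := residue_surjective
  rw [SmoothRegLib.one_tmul_eq_zero_iff hk] at h1
  let μ : M →ₗ[T] ResidueField T' ⊗[T'] (T' ⊗[T] M) :=
    ((TensorProduct.mk T' (ResidueField T') (T' ⊗[T] M) 1).restrictScalars T).comp (TensorProduct.mk T T' M 1)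
  have h2 : μ (∑ j ∈ s, a j • w j) = 0 := by
    refine Submodule.smul_induction_on h1 (fun r hr y _ => ?_) fun x y hx hy => by rw [map_add, hx, hy, add_zero]
    rw [map_smul, ← IsScalarTower.algebraMap_smul T' r, ← IsScalarTower.algebraMap_smul (ResidueField T') (algebraMap T T' r),
      show algebraMap T' (ResidueField T') (algebraMap T T' r) = 0 from ?_, zero_smul]
    refine (residue_eq_zero_iff _).2 (map_nonunit (algebraMap T T') r ?_)
    exact (residue_eq_zero_iff r).1 hr
  have h3 : ∑ j ∈ s, residue T' (algebraMap T T' (a j)) •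
      ((1 : ResidueField T') ⊗ₜ[T'] ((1 : T') ⊗ₜ[T] w j)) = 0 := by
    rw [← h2, map_sum]
    refine Finset.sum_congr rfl fun j _ => ?_
    rw [map_smul, ← IsScalarTower.algebraMap_smul T' (a j), ← IsScalarTower.algebraMap_smul (ResidueField T') (algebraMap T T' (a j))]
    rfl
  have h4 := (linearIndependent_iff'.1 h) s _ h3 i hi
  rw [← ha i, residue_eq_zero_iff]
  intro hu
  exact (residue_eq_zero_iff _).1 h4 (hu.map _)

/-- The map of local rings induced by a surjective map. -/
theorem localRingHom_data {P C : Type u} [CommRing P] [CommRing C] (π : P →+* C) (hπ : Function.Surjective π)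
    (Q : Ideal C) [Q.IsPrime] :
    Function.Surjective (Localization.localRingHom (Q.comap π) Q π rfl) ∧
      RingHom.ker (Localization.localRingHom (Q.comap π) Q π rfl) =
        (RingHom.ker π).map (algebraMap P (Localization.AtPrime (Q.comap π))) := by
  refine ⟨fun y => ?_, le_antisymm (fun x hx => ?_) (Ideal.map_le_iff_le_comap.2 fun a ha => ?_)⟩
  · obtain ⟨⟨c, s⟩, rfl⟩ := IsLocalization.mk'_surjective Q.primeCompl y
    obtain ⟨a, rfl⟩ := hπ c
    obtain ⟨b, hb⟩ := hπ s
    refine ⟨IsLocalization.mk' _ a (⟨b, fun hbq => s.2 (hb ▸ hbq)⟩ : (Q.comap π).primeCompl), ?_⟩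
    rw [Localization.localRingHom_mk']
    exact congrArg (IsLocalization.mk' _ (π a)) (Subtype.ext hb)
  · obtain ⟨⟨a, s⟩, rfl⟩ := IsLocalization.mk'_surjective (Q.comap π).primeCompl x
    rw [RingHom.mem_ker, Localization.localRingHom_mk', IsLocalization.mk'_eq_zero_iff] at hx
    obtain ⟨⟨t, ht⟩, hta⟩ := hx
    obtain ⟨t, rfl⟩ := hπ t
    refine (IsLocalization.mk'_mem_map_algebraMap_iff (Q.comap π).primeCompl _ (RingHom.ker π) a s).2
      ⟨t, ht, ?_⟩
    rw [RingHom.mem_ker, map_mul]
    exact hta
  · rw [Ideal.mem_comap, RingHom.mem_ker, Localization.localRingHom_to_map, show π a = 0 from ha, map_zero]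

/-- Base change of étale coordinates to the coordinates left after killing the equations. -/
theorem embed_of_etale {A P C R₁ R₂ : Type u} [CommRing A] [CommRing P] [CommRing C] [CommRing R₁] [CommRing R₂]
    [Algebra A P] [Algebra A C] [Algebra A R₁] [Algebra A R₂] (π : P →ₐ[A] C) (hπ : Function.Surjective π)
    (co : R₁ →ₐ[A] P) (kill : R₁ →ₐ[A] R₂) (res : R₂ →ₐ[A] C) (hcomm : π.comp co = res.comp kill) (g₀ : P)
    (het : ((algebraMap P (Localization.Away g₀)).comp co.toRingHom).Etale) (p : ℕ)
    (hstd : (algebraMap A R₂).IsStandardSmoothOfRelativeDimension p) :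
    ∃ (D : Type u) (_ : CommRing D) (φ : A →+* D),
      φ.IsStandardSmoothOfRelativeDimension p ∧ ∃ ψ : D →+* Localization.Away (π g₀),
        Function.Surjective ψ ∧ ψ.comp φ = algebraMap A (Localization.Away (π g₀)) := by
  let Pg := Localization.Away g₀
  let Cg := Localization.Away (π g₀)
  let πg : Pg →+* Cg := IsLocalization.Away.map Pg Cg π.toRingHom g₀
  have hπg : ∀ a : P, πg (algebraMap P Pg a) = algebraMap C Cg (π a) := fun a => IsLocalization.map_eq _ a
  let coR : R₁ →+* Pg := (algebraMap P Pg).comp co.toRingHom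
  letI : Algebra R₁ Pg := coR.toAlgebra
  letI : Algebra R₁ R₂ := kill.toRingHom.toAlgebra
  letI : Algebra R₁ Cg := ((algebraMap C Cg).comp (res.toRingHom.comp kill.toRingHom)).toAlgebra
  haveI : Algebra.Etale R₁ Pg := RingHom.etale_algebraMap.1 het
  let l₂ : R₂ →ₐ[R₁] Cg := { (algebraMap C Cg).comp res.toRingHom with commutes' := fun r => rfl }
  let lg : Pg →ₐ[R₁] Cg :=
    { πg with commutes' := fun r => (hπg (co r)).trans (congrArg (algebraMap C Cg) (AlgHom.congr_fun hcomm r)) }
  let ψ : R₂ ⊗[R₁] Pg →ₐ[R₁] Cg := Algebra.TensorProduct.lift l₂ lg fun _ _ => Commute.all _ _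
  refine ⟨R₂ ⊗[R₁] Pg, inferInstance, (algebraMap R₂ (R₂ ⊗[R₁] Pg)).comp (algebraMap A R₂), ?_, ψ.toRingHom,
    fun y => ?_, ?_⟩
  · have h1 : (algebraMap R₂ (R₂ ⊗[R₁] Pg)).IsStandardSmoothOfRelativeDimension 0 :=
      RingHom.etale_iff_isStandardSmoothOfRelativeDimension_zero.1 (RingHom.etale_algebraMap.2 inferInstance)
    have h3 := h1.comp hstd
    rwa [zero_add] at h3
  · obtain ⟨⟨c, ⟨_, m, rfl⟩⟩, rfl⟩ := IsLocalization.mk'_surjective (Submonoid.powers (π g₀)) y
    obtain ⟨a, rfl⟩ := hπ c
    refine ⟨1 ⊗ₜ IsLocalization.mk' Pg a (⟨g₀ ^ m, m, rfl⟩ : Submonoid.powers g₀), ?_⟩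
    show l₂ 1 * lg _ = _
    rw [map_one, one_mul]
    refine IsLocalization.eq_mk'_iff_mul_eq.2 ?_
    show πg _ * algebraMap C Cg ((π g₀) ^ m) = algebraMap C Cg (π a)
    rw [← map_pow, ← hπg, ← map_mul]
    exact (congrArg πg (IsLocalization.mk'_spec Pg a (⟨g₀ ^ m, m, rfl⟩ : Submonoid.powers g₀))).trans (hπg a)
  · refine RingHom.ext fun a => ?_
    show l₂ (algebraMap A R₂ a) * lg 1 = _
    rw [map_one, mul_one]
    show algebraMap C Cg (res (algebraMap A R₂ a)) = _
    rw [AlgHom.commutes, ← IsScalarTower.algebraMap_apply A C Cg]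

/-- An algebra whose differentials at a prime need at most `p` generators embeds, near that prime, in a smooth
algebra of relative dimension `p`. -/
theorem exists_embed {A : Type u} [CommRing A] {C : Type u} [CommRing C] [Algebra A C] [Algebra.FinitePresentation A C]
    (Q : Ideal C) [Q.IsPrime] (p : ℕ)
    (hspan : ∃ v : Fin p → Ω[Localization.AtPrime Q⁄A],
      Submodule.span (Localization.AtPrime Q) (Set.range v) = ⊤) :
    ∃ (g : C) (_ : g ∉ Q) (D : Type u) (_ : CommRing D) (φ : A →+* D),
      φ.IsStandardSmoothOfRelativeDimension p ∧ ∃ ψ : D →+* Localization.Away g,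
        Function.Surjective ψ ∧ ψ.comp φ = algebraMap A (Localization.Away g) := by
  classical
  obtain ⟨n, π₀, hπ₀⟩ := (Algebra.FiniteType.iff_quotient_mvPolynomial'').1 (inferInstance : Algebra.FiniteType A C)
  let σ : Type u := ULift.{u} (Fin n ⊕ Fin p)
  let P := MvPolynomial σ A
  let π : P →ₐ[A] C := MvPolynomial.aeval fun j : σ => Sum.elim (fun i => π₀ (MvPolynomial.X i)) 0 j.down
  have hπ : Function.Surjective π := fun c => by
    obtain ⟨a, rfl⟩ := hπ₀ c
    refine ⟨MvPolynomial.rename (fun i => ULift.up (Sum.inl i)) a, ?_⟩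
    rw [MvPolynomial.aeval_rename]
    conv_rhs => rw [MvPolynomial.aeval_unique π₀]
    rfl
  obtain ⟨c, gens, hgens⟩ : ∃ (c : ℕ) (gens : Fin c → P), Ideal.span (Set.range gens) = RingHom.ker π.toRingHom :=
    Submodule.fg_iff_exists_fin_generating_family.1 (Algebra.FinitePresentation.ker_fG_of_surjective π hπ)
  letI : Algebra P C := π.toRingHom.toAlgebra
  let q : Ideal P := Q.comap π.toRingHom
  let T := Localization.AtPrime q
  let T' := Localization.AtPrime Q
  obtain ⟨hls, hlk⟩ := localRingHom_data π.toRingHom hπ Q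
  letI : Algebra T T' := (Localization.localRingHom q Q π.toRingHom rfl).toAlgebra
  haveI : IsLocalHom (algebraMap T T') := inferInstanceAs (IsLocalHom (Localization.localRingHom q Q π.toRingHom rfl))
  haveI : IsScalarTower A T T' := .of_algebraMap_eq fun a => by
    rw [IsScalarTower.algebraMap_apply A P T, RingHom.algebraMap_toAlgebra, Localization.localRingHom_to_map,
      IsScalarTower.algebraMap_apply A C T']
    exact congrArg (algebraMap C T') (π.commutes a).symm
  obtain ⟨hfree, hfin, hrk⟩ := kaehler_data_mvPolynomial A σ q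
  let h' : Fin c → T := fun i => algebraMap P T (gens i)
  have hker : RingHom.ker (algebraMap T T') = Ideal.span (Set.range h') := by
    rw [RingHom.algebraMap_toAlgebra, hlk, ← hgens, Ideal.map_span, ← Set.range_comp]
    rfl
  have hadd := finrank_range_add (R := A) h' hls hker
  rw [range_psi_eq_span, hrk] at hadd
  let k' := ResidueField T'
  haveI : Module.Finite T' Ω[T'⁄A] := ⟨⟨Finset.univ.image hspan.choose, by
    rw [Finset.coe_image, Finset.coe_univ, Set.image_univ]; exact hspan.choose_spec⟩⟩
  have hle : Module.finrank k' (k' ⊗[T'] Ω[T'⁄A]) ≤ p := (exists_span_iff_finrank_le _ p).1 hspan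
  have hσ : Nat.card σ = n + p := by simp [σ, Nat.card_eq_fintype_card]
  -- independent relations
  let vb : P → k' ⊗[T'] (T' ⊗[T] Ω[T⁄A]) := fun b =>
    (1 : k') ⊗ₜ[T'] ((1 : T') ⊗ₜ[T] KaehlerDifferential.D A T (algebraMap P T b))
  obtain ⟨b, hb, hbspan, hbli⟩ := exists_linearIndependent k' (Set.range (vb ∘ gens))
  haveI : Finite b := Set.Finite.to_subtype ((Set.finite_range _).subset hb)
  have hbcard : n ≤ Nat.card b := by
    have e : Module.finrank k' (Submodule.span k' (Set.range (Subtype.val : b → _))) = Nat.card b := by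
      haveI := Fintype.ofFinite b
      rw [finrank_span_eq_card hbli, Nat.card_eq_fintype_card]
    rw [Subtype.range_coe, hbspan] at e
    change Module.finrank k' (Submodule.span k' (Set.range (vb ∘ gens))) + Module.finrank k' (k' ⊗[T'] Ω[T'⁄A]) = _ at hadd
    omega
  haveI := Fintype.ofFinite b
  let emb : Fin n ↪ b := (Fin.castLEEmb (hbcard.trans_eq Nat.card_eq_fintype_card)).trans (Fintype.equivFin b).symm.toEmbedding
  choose idx hidx using fun j => hb (emb j).2
  let g : Fin n → P := fun j => gens (idx j)
  have hg : ∀ j, π (g j) = 0 := fun j => by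
    show gens (idx j) ∈ RingHom.ker π.toRingHom
    rw [← hgens]; exact Ideal.subset_span ⟨_, rfl⟩
  let k := q.ResidueField
  let dB : P → k ⊗[T] Ω[T⁄A] := fun b => (1 : k) ⊗ₜ[T] KaehlerDifferential.D A T (algebraMap P T b)
  have hli : LinearIndependent k (dB ∘ g) := by
    refine linearIndependent_of_quotient (T' := T') (fun j => KaehlerDifferential.D A T (algebraMap P T (g j))) ?_
    have h1 := hbli.comp emb emb.injective
    have e : (fun j => vb (g j)) = Subtype.val ∘ emb := funext hidx
    rw [← e] at h1
    exact h1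
  -- extension to coordinates
  have hginj : Function.Injective g := Function.Injective.of_comp hli.injective
  have hs : LinearIndepOn k dB (Set.range g) := (linearIndepOn_range_iff hginj dB).2 hli
  let E := hs.extend (Set.subset_univ _)
  have hE : LinearIndepOn k dB E := hs.linearIndepOn_extend (Set.subset_univ _)
  have hgE : Set.range g ⊆ E := hs.subset_extend (Set.subset_univ _)
  have hEspan : ⊤ ≤ Submodule.span k (Set.range fun e : E => dB e) := by
    rw [← AdaptCoordLib.span_differentials (A := A) q, Submodule.span_le]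
    rintro _ ⟨b, rfl⟩
    have h := hs.image_subset_span_image_extend (Set.subset_univ _) ⟨b, trivial, rfl⟩
    rw [Set.image_eq_range] at h
    exact h
  let bE : Module.Basis E k (k ⊗[T] Ω[T⁄A]) := Module.Basis.mk hE.linearIndependent hEspan
  haveI : Finite E := Module.Finite.finite_basis bE
  have hEcard : Nat.card E = n + p := by
    rw [← Module.finrank_eq_nat_card_basis bE, Module.finrank_baseChange, hrk, hσ]
  let E₀ : Type u := ↥(E \ Set.range g)
  haveI : Finite E₀ := Finite.of_injective (fun x : E₀ => (⟨x.1, x.2.1⟩ : E))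
    fun x y h => Subtype.ext (congrArg Subtype.val h :)
  have hE₀ : Nat.card E₀ = p := by
    have h1 := Set.ncard_sdiff hgE (Set.finite_range g)
    rw [Set.ncard_range_of_injective hginj, Nat.card_fin] at h1
    rw [show Nat.card E₀ = (E \ Set.range g).ncard from Nat.card_coe_set_eq _, h1,
      ← Nat.card_coe_set_eq, hEcard, Nat.add_sub_cancel_left]
  haveI : Algebra.IsSmoothAt A q := by
    haveI : Algebra.FormallyEtale P T := .of_isLocalization q.primeCompl
    exact Algebra.FormallySmooth.comp A P T
  obtain ⟨g₀, hg₀, het⟩ := AdaptCoordLib.exists_etale_of_basis q (fun e : E => (e : P)) bE (fun e => by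
    rw [Module.Basis.mk_apply])
  let R₁ := MvPolynomial E A
  let R₂ := MvPolynomial E₀ A
  let kill : R₁ →ₐ[A] R₂ := MvPolynomial.aeval fun e : E =>
    if he : (e : P) ∈ Set.range g then 0 else MvPolynomial.X ⟨e, e.2, he⟩
  let co : R₁ →ₐ[A] P := MvPolynomial.aeval fun e : E => (e : P)
  let res : R₂ →ₐ[A] C := MvPolynomial.aeval fun e : E₀ => π (e : P)
  have hcomm : π.comp co = res.comp kill := by
    refine MvPolynomial.algHom_ext fun e => ?_
    show π (co (MvPolynomial.X e)) = res (kill (MvPolynomial.X e))
    rw [MvPolynomial.aeval_X, MvPolynomial.aeval_X]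
    by_cases he : (e : P) ∈ Set.range g
    · obtain ⟨j, hj⟩ := he
      rw [dif_pos ⟨j, hj⟩, map_zero, ← hj, hg j]
    · rw [dif_neg he, MvPolynomial.aeval_X]
  exact ⟨π g₀, hg₀, embed_of_etale π hπ co kill res hcomm g₀ (het g₀ dvd_rfl) p
    (hE₀ ▸ (RingHom.isStandardSmoothOfRelativeDimension_algebraMap _).2 (stdSmooth_mvPolynomial A E₀))⟩

end Groth.Agent.JacLocusLib
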