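import Groth.Agent.JacLocusLib.Scheme
import Groth.Agent.S2063
import Groth.Agent.S2768
import Groth.Agent.FlatLocus.PointScheme
import Groth.Agent.EtAlgEasy.OmegaSmooth3
import Groth.Agent.DimFormulaLib.Field
import Groth.Agent.DimFormulaLib.Misc
import Groth.Agent.DimFormulaLib.Chart

/-!
Jacobian loci of flat morphisms with equidimensional fibres.
-/

set_option autoImplicit false
set_option backward.isDefEq.respectTransparency false
set_option backward.defeqAttrib.useBackward true
set_option linter.style.haveILetI false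

universe u

open CategoryTheory CategoryTheory.Limits AlgebraicGeometry TopologicalSpace Opposite IsLocalRing
open scoped TensorProduct

namespace Groth.Agent.JacLocusLib

variable {X Y : Scheme.{u}}

/-- Generators of differentials pass to quotients. -/
theorem span_transfer {R T R' T' : Type u} [CommRing R] [CommRing T] [CommRing R'] [CommRing T'] [Algebra R T]
    [Algebra R' T'] [Algebra R R'] [Algebra T T'] [Algebra R T'] [IsScalarTower R R' T'] [IsScalarTower R T T']
    (hs : Function.Surjective (algebraMap T T')) {p : ℕ} (g : Fin p → Ω[T⁄R])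
    (hg : Submodule.span T (Set.range g) = ⊤) :
    Submodule.span T' (Set.range (KaehlerDifferential.map R R' T T' ∘ g)) = ⊤ := by
  refine top_le_iff.1 ?_
  rw [← KaehlerDifferential.span_range_derivation R' T', Submodule.span_le]
  rintro _ ⟨b, rfl⟩
  obtain ⟨a, rfl⟩ := hs b
  have h : KaehlerDifferential.D R T a ∈ Submodule.span T (Set.range g) := hg ▸ trivial
  have h1 := Submodule.apply_mem_span_image_of_mem_span (KaehlerDifferential.map R R' T T') h
  rw [KaehlerDifferential.map_D, ← Set.range_comp] at h1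
  exact Submodule.span_le_restrictScalars T T' _ h1

/-- The action of the base on a local ring read on an affine chart. -/
theorem baseAlg_eq_appLE (f : X ⟶ Y) (x : X) {W : Y.Opens} {V : X.Opens} (e : V ≤ f ⁻¹ᵁ W) (hxV : x ∈ V) :
    baseAlg f x (e hxV) = (f.appLE W V e ≫ X.presheaf.germ V x hxV).hom := by
  refine congrArg CommRingCat.Hom.hom ?_
  rw [Scheme.Hom.germ_stalkMap, Scheme.Hom.appLE, Category.assoc, TopCat.Presheaf.germ_res]

/-- All local dimensions of a scheme with components of the same dimension. -/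
theorem localDim_eq_of_components {K : Type u} [Field K] {F : Scheme.{u}} (g : F ⟶ Spec (CommRingCat.of K))
    [LocallyOfFiniteType g] (d : ℕ) (hdim : ∀ T ∈ irreducibleComponents ↥F, topologicalKrullDim ↥T = d) (w : F) :
    FlatMor.localDim ↥F w = (d : WithBot ℕ∞) := by
  refine le_antisymm ?_ ?_
  · refine (iInf_le_of_le ⟨⊤, trivial⟩ (topologicalKrullDim_subspace_le ↥F _)).trans ?_
    refine DimFormulaLib.topologicalKrullDim_le_of_components _ fun η hη => (hdim _ ?_).le
    exact DimFormulaLib.closure_mem_irreducibleComponents hη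
  · obtain ⟨Z, hZ, hwZ⟩ : ∃ Z ∈ irreducibleComponents ↥F, w ∈ Z :=
      ⟨irreducibleComponent w, irreducibleComponent_mem_irreducibleComponents w, mem_irreducibleComponent⟩
    obtain ⟨η, hη, hmax⟩ := DimFormulaLib.exists_generic_of_mem_irreducibleComponents hZ
    have hηw : η ⤳ w := specializes_iff_mem_closure.2 (hη.symm ▸ hwZ)
    refine le_trans ?_ (DimFormulaLib.localDim_le_of_specializes hηw)
    obtain ⟨a, t, ha, -, hloc, hh⟩ := DimFormulaLib.field_dims g η
    have hd := hdim Z hZ
    rw [← hη, DimFormulaLib.topologicalKrullDim_closure_singleton, hh] at hd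
    rw [hloc, ← hd]
    show ((t : ℕ∞) : WithBot ℕ∞) ≤ ((a + t : ℕ) : WithBot ℕ∞)
    exact_mod_cast Nat.le_add_left t a

/-- At a smooth point the differentials have the dimension of the fibre as rank. -/
theorem finrank_eq_of_mem_smoothLocus (f : X ⟶ Y) [LocallyOfFinitePresentation f] {x : X} (hx : x ∈ f.smoothLocus)
    {W : Y.Opens} (hW : IsAffineOpen W) (hxW : f x ∈ W) :
    letI := (baseAlg f x hxW).toAlgebra
    ∃ m : ℕ, FlatMor.fibreDimAt f x = (m : WithBot ℕ∞) ∧
      Module.finrank (ResidueField (X.presheaf.stalk x))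
        (ResidueField (X.presheaf.stalk x) ⊗[X.presheaf.stalk x] Ω[X.presheaf.stalk x⁄Γ(Y, W)]) = m := by
  obtain ⟨V, hV, hxV, eV, hsm⟩ : ∃ (V : X.Opens) (_ : IsAffineOpen V) (_ : x ∈ V) (eV : V ≤ f ⁻¹ᵁ W),
      (f.appLE W V eV).hom.Smooth := by
    obtain ⟨V, hV, hxV, eV⟩ := exists_isAffineOpen_mem_and_subset (X := X) (x := x) (U := f ⁻¹ᵁ W) hxW
    haveI := f.finitePresentation_appLE hW hV eV
    algebraize [(f.appLE W V eV).hom]
    haveI : Algebra.IsSmoothAt _ _ := (formallySmooth_stalkMap_iff W hW V hV eV hxV).1 hx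
    obtain ⟨r, hr, hsm⟩ := Algebra.IsSmoothAt.exists_notMem_smooth Γ(Y, W) (hV.primeIdealOf ⟨x, hxV⟩).asIdeal
    rw [← RingHom.smooth_algebraMap] at hsm
    letI : Algebra Γ(X, V) Γ(X, X.basicOpen r) := (X.presheaf.map (homOfLE (X.basicOpen_le r)).op).hom.toAlgebra
    haveI := hV.isLocalization_basicOpen r
    refine ⟨X.basicOpen r, hV.basicOpen r, (PullbackMod.primeCompl_primeIdealOf hV x hxV r).mp hr,
      (X.basicOpen_le r).trans eV, ?_⟩
    let ε := IsLocalization.algEquiv (Submonoid.powers r) (Localization.Away r) Γ(X, X.basicOpen r)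
    have := RingHom.Smooth.respectsIso.1 _ ε.toRingEquiv hsm
    convert this using 1
    rw [← Scheme.Hom.appLE_map f eV (homOfLE (X.basicOpen_le r)).op, CommRingCat.hom_comp,
      IsScalarTower.algebraMap_eq Γ(Y, W) Γ(X, V) (Localization.Away r), ← RingHom.comp_assoc]
    congr 1
    exact (AlgHom.comp_algebraMap ε.toAlgHom).symm
  obtain ⟨s, hs, h⟩ := hsm.locally_isStandardSmooth
  obtain ⟨t, ht, htp⟩ : ∃ t ∈ s, t ∉ (hV.primeIdealOf ⟨x, hxV⟩).asIdeal := by
    by_contra hcon
    push Not at hcon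
    exact (hV.primeIdealOf ⟨x, hxV⟩).isPrime.ne_top (eq_top_iff.2 (hs ▸ Ideal.span_le.2 hcon))
  have hxt : x ∈ X.basicOpen t := (PullbackMod.primeCompl_primeIdealOf hV x hxV t).mp htp
  letI : Algebra Γ(X, V) Γ(X, X.basicOpen t) := (X.presheaf.map (homOfLE (X.basicOpen_le t)).op).hom.toAlgebra
  haveI := hV.isLocalization_basicOpen t
  let ε := IsLocalization.algEquiv (Submonoid.powers t) (Localization.Away t) Γ(X, X.basicOpen t)
  have et : X.basicOpen t ≤ f ⁻¹ᵁ W := (X.basicOpen_le t).trans eV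
  have h1 : (f.appLE W (X.basicOpen t) et).hom.IsStandardSmooth := by
    have := RingHom.isStandardSmooth_respectsIso.1 _ ε.toRingEquiv (h t ht)
    convert this using 1
    rw [← Scheme.Hom.appLE_map f eV (homOfLE (X.basicOpen_le t)).op, CommRingCat.hom_comp, ← RingHom.comp_assoc]
    congr 1
    exact (AlgHom.comp_algebraMap ε.toAlgHom).symm
  algebraize [(f.appLE W (X.basicOpen t) et).hom]
  obtain ⟨ι, σ, _, _, ⟨Pr⟩⟩ := (‹Algebra.IsStandardSmooth Γ(Y, W) Γ(X, X.basicOpen t)›).out
  have hstd : (f.appLE W (X.basicOpen t) et).hom.IsStandardSmoothOfRelativeDimension Pr.dimension :=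
    Algebra.IsStandardSmoothOfRelativeDimension.mk ⟨ι, σ, inferInstance, inferInstance, Pr, rfl⟩
  refine ⟨Pr.dimension, EtAlgEasy.OmegaSmooth.fibreDimAt_of_std f hW (hV.basicOpen t) et _ hstd hxt, ?_⟩
  letI := (baseAlg f x hxW).toAlgebra
  letI := (f.stalkMap x).hom.toAlgebra
  haveI : Algebra.FormallySmooth Γ(Y, W) (X.presheaf.stalk x) := (formallySmooth_iff_mem_smoothLocus f x hW hxW).2 hx
  haveI := finite_kaehler f x hW hxW
  haveI : Module.Free (X.presheaf.stalk x) Ω[X.presheaf.stalk x⁄Γ(Y, W)] := Module.free_of_flat_of_isLocalRing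
  obtain ⟨e⟩ := nonempty_equiv_base f x hW hxW
  rw [Module.finrank_baseChange, e.finrank_eq]
  exact RatPtSmooth.finrank_of_std f hW (hV.basicOpen t) et hxt _ hstd

/-- Smoothness over a field from the number of generators of the differentials. -/
theorem mem_smoothLocus_of_span {K : Type u} [Field K] {F : Scheme.{u}} (g : F ⟶ Spec (CommRingCat.of K))
    [LocallyOfFinitePresentation g] (z : F) (d : ℕ) (hd : (d : WithBot ℕ∞) ≤ FlatMor.localDim ↥F z)
    (hspan : letI := (baseAlg g z (W := ⊤) trivial).toAlgebra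
      ∃ v : Fin d → Ω[F.presheaf.stalk z⁄Γ(Spec (CommRingCat.of K), ⊤)],
        Submodule.span (F.presheaf.stalk z) (Set.range v) = ⊤) : z ∈ g.smoothLocus := by
  have hV := isAffineOpen_top (Spec (CommRingCat.of K))
  obtain ⟨U, hU, hzU, -⟩ := exists_isAffineOpen_mem_and_subset (X := F) (x := z) (U := ⊤) trivial
  have eU : U ≤ g ⁻¹ᵁ ⊤ := le_top
  rw [Scheme.Hom.mem_smoothLocus, formallySmooth_stalkMap_iff ⊤ hV U hU eU hzU]
  letI : Field Γ(Spec (CommRingCat.of K), ⊤) :=
    (((Scheme.ΓSpecIso (CommRingCat.of K)).commRingCatIsoToRingEquiv.toMulEquiv.isField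
      (Field.toIsField K)) : IsField Γ(Spec (CommRingCat.of K), ⊤)).toField
  letI := (g.appLE ⊤ U eU).hom.toAlgebra
  haveI : Algebra.FiniteType Γ(Spec (CommRingCat.of K), ⊤) Γ(F, U) := g.finiteType_appLE hV hU eU
  let q := hU.primeIdealOf ⟨z, hzU⟩
  let R := Γ(Spec (CommRingCat.of K), ⊤)
  let S := Γ(F, U)
  let T' := Localization.AtPrime q.asIdeal
  letI := (baseAlg g z (W := ⊤) trivial).toAlgebra
  letI : Algebra S (F.presheaf.stalk z) := TopCat.Presheaf.algebra_section_stalk F.presheaf ⟨z, hzU⟩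
  haveI := hU.isLocalization_stalk ⟨z, hzU⟩
  haveI : IsScalarTower R S (F.presheaf.stalk z) := .of_algebraMap_eq' (baseAlg_eq_appLE g z eU hzU)
  let ε : F.presheaf.stalk z ≃ₐ[S] T' := IsLocalization.algEquiv q.asIdeal.primeCompl _ _
  letI : Algebra (F.presheaf.stalk z) T' := ε.toRingEquiv.toRingHom.toAlgebra
  haveI : IsScalarTower R (F.presheaf.stalk z) T' := .of_algebraMap_eq fun r => by
    rw [IsScalarTower.algebraMap_apply R S T', IsScalarTower.algebraMap_apply R S (F.presheaf.stalk z)]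
    exact (ε.commutes _).symm
  obtain ⟨v, hv⟩ := hspan
  have hv' := span_transfer (R' := R) (T' := T') ε.surjective v hv
  haveI : Algebra.FormallyEtale S T' := .of_isLocalization q.asIdeal.primeCompl
  let e := (KaehlerDifferential.tensorKaehlerEquivOfFormallyEtale R S T')
  haveI : Module.Finite T' Ω[T'⁄R] := Module.Finite.equiv e
  have hle : Module.finrank (ResidueField T') (ResidueField T' ⊗[T'] Ω[T'⁄R]) ≤ d :=
    (exists_span_iff_finrank_le _ d).1 ⟨_, hv'⟩
  refine (S2063.result q.asIdeal).2 ?_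
  rw [((TensorProduct.AlgebraTensorModule.cancelBaseChange S T' q.asIdeal.ResidueField q.asIdeal.ResidueField
    Ω[S⁄R]).symm.trans (e.baseChange T' q.asIdeal.ResidueField)).finrank_eq]
  refine le_trans ?_ (hd.trans ?_)
  · exact_mod_cast hle
  · obtain ⟨w, hw⟩ : ∃ w, hU.fromSpec w = z := ⟨q, hU.fromSpec_primeIdealOf ⟨z, hzU⟩⟩
    rw [← hw, DimFormulaLib.Chart.localDim_eq_of_isOpenEmbedding_spec hU.fromSpec.isOpenEmbedding]
    · rw [show w = q from hU.fromSpec.isOpenEmbedding.injective (hw.trans (hU.fromSpec_primeIdealOf ⟨z, hzU⟩).symm)]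
      exact le_rfl

end Groth.Agent.JacLocusLib
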