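import Groth.Agent.S8916
import Groth.Agent.PullbackMod.LimFree

/-!
Smoothness and free sheaves of differentials.
-/

set_option autoImplicit false
set_option backward.isDefEq.respectTransparency false
set_option backward.defeqAttrib.useBackward true
set_option linter.style.haveILetI false

universe u

open CategoryTheory CategoryTheory.Limits AlgebraicGeometry TopologicalSpace Opposite IsLocalRing
open scoped TensorProduct

namespace Groth.Agent.JacLocusLib

variable {X Y : Scheme.{u}} (f : X ⟶ Y) {Ω' : X.Modules} {d : OmegaSh.Der f Ω'}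

/-- Stalks of a universal sheaf of differentials. -/
theorem freeAt_universal_iff (hd : OmegaSh.IsUniversal d) (x : X) (n : ℕ) :
    letI := (f.stalkMap x).hom.toAlgebra
    PullbackMod.FreeAt n Ω' x ↔
      Nonempty (Ω[X.presheaf.stalk x⁄Y.presheaf.stalk (f x)] ≃ₗ[X.presheaf.stalk x] (Fin n → X.presheaf.stalk x)) := by
  haveI := OmegaUnivLib.isQCoh_of_universal hd
  obtain ⟨_, ⟨V, hV, rfl⟩, hxV, -⟩ :=
    Y.isBasis_affineOpens.exists_subset_of_mem_open (Set.mem_univ (f x)) isOpen_univ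
  obtain ⟨_, ⟨U, hU, rfl⟩, hxU, hUV⟩ :=
    X.isBasis_affineOpens.exists_subset_of_mem_open (a := x) hxV (f ⁻¹ᵁ V).2
  have e : U ≤ f ⁻¹ᵁ V := hUV
  letI := (f.appLE V U e).hom.toAlgebra
  letI := (f.stalkMap x).hom.toAlgebra
  obtain ⟨L, hL⟩ := OmegaUnivLib.exists_lin_of_der d e
  let E := LinearEquiv.ofBijective L (OmegaUnivLib.bijective_of_universal hV hU e hd L hL)
  letI := Module.compHom (Ω'.presheaf.stalk x) (X.presheaf.germ U x hxU).hom
  haveI := FlatLocus.isLocalizedModule_germL Ω' hU x hxU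
  letI : Algebra Γ(X, U) (X.presheaf.stalk x) := TopCat.Presheaf.algebra_section_stalk X.presheaf ⟨x, hxU⟩
  haveI := hU.isLocalization_stalk ⟨x, hxU⟩
  haveI : IsScalarTower Γ(X, U) (X.presheaf.stalk x) (Ω'.presheaf.stalk x) := .of_algebraMap_smul fun _ _ => rfl
  obtain ⟨ε⟩ := RatPtSmooth.exists_equiv_chart f hV hU e hxU
  let η : Ω'.presheaf.stalk x ≃ₗ[X.presheaf.stalk x] Ω[X.presheaf.stalk x⁄Y.presheaf.stalk (f x)] :=
    (IsLocalizedModule.isBaseChange (hU.primeIdealOf ⟨x, hxU⟩).asIdeal.primeCompl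
      (X.presheaf.stalk x) (FlatLocus.germL Ω' U x hxU)).equiv.symm.trans
      ((E.symm.baseChange Γ(X, U) (X.presheaf.stalk x)).trans ε)
  exact ⟨fun ⟨a⟩ => ⟨η.symm.trans a⟩, fun ⟨a⟩ => ⟨η.trans a⟩⟩

variable [LocallyOfFinitePresentation f]

/-- Near a smooth point the differentials are free of rank the dimension of the fibre. -/
theorem exists_free_of_mem_smoothLocus (hd : OmegaSh.IsUniversal d) {x : X} (hx : x ∈ f.smoothLocus) :
    ∃ (U : X.Opens) (n : ℕ), x ∈ U ∧ Nonempty (Ω'.restrict U.ι ≅ FlatMod.freeMod (↑U) n) ∧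
      FlatMor.fibreDimAt f x = (n : WithBot ℕ∞) := by
  haveI := OmegaUnivLib.isQCoh_of_universal hd
  obtain ⟨W, hW, hxW, -⟩ := exists_isAffineOpen_mem_and_subset (X := Y) (x := f x) (U := ⊤) trivial
  obtain ⟨m, hm, hr⟩ := finrank_eq_of_mem_smoothLocus f hx hW hxW
  letI := (baseAlg f x hxW).toAlgebra
  letI := (f.stalkMap x).hom.toAlgebra
  haveI : Algebra.FormallySmooth Γ(Y, W) (X.presheaf.stalk x) := (formallySmooth_iff_mem_smoothLocus f x hW hxW).2 hx
  haveI := finite_kaehler f x hW hxW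
  haveI : Module.Free (X.presheaf.stalk x) Ω[X.presheaf.stalk x⁄Γ(Y, W)] := Module.free_of_flat_of_isLocalRing
  rw [Module.finrank_baseChange] at hr
  obtain ⟨e⟩ := nonempty_equiv_base f x hW hxW
  let b := (Module.finBasisOfFinrankEq (X.presheaf.stalk x) Ω[X.presheaf.stalk x⁄Γ(Y, W)] hr).map e
  have hfree : PullbackMod.FreeAt m Ω' x := (freeAt_universal_iff f hd x m).2 ⟨b.equivFun⟩
  obtain ⟨U, hxU, hi⟩ := PullbackMod.exists_nhd_freeAt Ω' (OmegaUnivLib.isFP_of_universal hd) hfree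
  exact ⟨U, m, hxU, hi, hm⟩

/-- With free differentials of the right rank the fibre is smooth at the point. -/
theorem smooth_fibre_of_free (hd : OmegaSh.IsUniversal d) (x : X) {U : X.Opens} {n : ℕ} (hxU : x ∈ U)
    (hi : Nonempty (Ω'.restrict U.ι ≅ FlatMod.freeMod (↑U) n))
    (hn : FlatMor.fibreDimAt f x = (n : WithBot ℕ∞)) [LocallyOfFinitePresentation (f.fiberToSpecResidueField (f x))] :
    f.asFiber x ∈ (f.fiberToSpecResidueField (f x)).smoothLocus := by
  haveI := OmegaUnivLib.isQCoh_of_universal hd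
  obtain ⟨i⟩ := hi
  obtain ⟨W, hW, hxW, -⟩ := exists_isAffineOpen_mem_and_subset (X := Y) (x := f x) (U := ⊤) trivial
  have key : ∀ (y : X) (hy : f y ∈ W), y = x →
      (letI := (baseAlg f y hy).toAlgebra
      ∃ g : Fin n → Ω[X.presheaf.stalk y⁄Γ(Y, W)], Submodule.span (X.presheaf.stalk y) (Set.range g) = ⊤) := by
    rintro y hy rfl
    letI := (baseAlg f y hy).toAlgebra
    letI := (f.stalkMap y).hom.toAlgebra
    obtain ⟨e⟩ := (freeAt_universal_iff f hd y n).1 (PullbackMod.freeAt_of_restrict_iso Ω' i hxU)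
    obtain ⟨ε⟩ := nonempty_equiv_base f y hW hy
    let b := Module.Basis.ofEquivFun (ε.trans e)
    exact ⟨b, b.span_eq⟩
  have hz : f (f.fiberι (f x) (f.asFiber x)) ∈ W := by rw [f.fiberι_asFiber]; exact hxW
  exact mem_smoothLocus_of_span (K := Y.residueField (f x)) (f.fiberToSpecResidueField (f x)) (f.asFiber x) n hn.ge
    (S8916.fibre_span f (f x) (f.asFiber x) n hz (key _ hz (f.fiberι_asFiber x)))

end Groth.Agent.JacLocusLib
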