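import Groth.Agent.JacLocusLib.Alg
import Groth.Agent.RatPtSmooth.Main
import Groth.Agent.FittSheafLib.Omega
import Groth.Agent.SmoothRegLib.Main
import Groth.Agent.RegIdealLib.Immersion

/-!
Jacobian loci through local rings.
-/

set_option autoImplicit false
set_option backward.isDefEq.respectTransparency false
set_option backward.defeqAttrib.useBackward true
set_option linter.style.haveILetI false

universe u

open CategoryTheory CategoryTheory.Limits AlgebraicGeometry TopologicalSpace Opposite IsLocalRing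
open scoped TensorProduct

namespace Groth.Agent.JacLocusLib

variable {X Y P : Scheme.{u}}

/-- Sections of an open of the base act on a local ring of the source. -/
noncomputable def baseAlg (f : X ⟶ Y) (x : X) {W : Y.Opens} (hx : f x ∈ W) : Γ(Y, W) →+* X.presheaf.stalk x :=
  (Y.presheaf.germ W (f x) hx ≫ f.stalkMap x).hom

/-- The differentials of a local ring over an affine open of the base. -/
theorem nonempty_equiv_base (f : X ⟶ Y) (x : X) {W : Y.Opens} (hW : IsAffineOpen W) (hx : f x ∈ W) :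
    letI := (baseAlg f x hx).toAlgebra
    letI := (f.stalkMap x).hom.toAlgebra
    Nonempty (Ω[X.presheaf.stalk x⁄Γ(Y, W)] ≃ₗ[X.presheaf.stalk x] Ω[X.presheaf.stalk x⁄Y.presheaf.stalk (f x)]) := by
  letI := (baseAlg f x hx).toAlgebra
  letI := (f.stalkMap x).hom.toAlgebra
  letI : Algebra Γ(Y, W) (Y.presheaf.stalk (f x)) := TopCat.Presheaf.algebra_section_stalk Y.presheaf ⟨f x, hx⟩
  haveI := hW.isLocalization_stalk ⟨f x, hx⟩
  haveI : IsScalarTower Γ(Y, W) (Y.presheaf.stalk (f x)) (X.presheaf.stalk x) := .of_algebraMap_eq' rfl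
  haveI : Algebra.FormallyEtale Γ(Y, W) (Y.presheaf.stalk (f x)) :=
    .of_isLocalization (hW.primeIdealOf ⟨f x, hx⟩).asIdeal.primeCompl
  exact ⟨LinearEquiv.ofBijective _ kaehler_map_bijective⟩

/-- The stalk of the sheaf of differentials. -/
theorem nonempty_equiv_stalk (f : X ⟶ Y) [QuasiSeparated f] (x : X) :
    letI := (f.stalkMap x).hom.toAlgebra
    Nonempty ((Omega.sheaf f).presheaf.stalk x ≃ₗ[X.presheaf.stalk x]
      Ω[X.presheaf.stalk x⁄Y.presheaf.stalk (f x)]) := by
  have hd := OmegaUnivLib.isUniversal_dOmega f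
  haveI := OmegaUnivLib.isQCoh_of_universal hd
  obtain ⟨_, ⟨V, hV, rfl⟩, hxV, -⟩ :=
    Y.isBasis_affineOpens.exists_subset_of_mem_open (Set.mem_univ (f x)) isOpen_univ
  obtain ⟨_, ⟨U, hU, rfl⟩, hxU, hUV⟩ :=
    X.isBasis_affineOpens.exists_subset_of_mem_open (a := x) hxV (f ⁻¹ᵁ V).2
  have e : U ≤ f ⁻¹ᵁ V := hUV
  letI := (f.appLE V U e).hom.toAlgebra
  letI := (f.stalkMap x).hom.toAlgebra
  obtain ⟨L, hL⟩ := OmegaUnivLib.exists_lin_of_der (OmegaSh.dOmega f) e
  let E := LinearEquiv.ofBijective L (OmegaUnivLib.bijective_of_universal hV hU e hd L hL)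
  let M := Omega.sheaf f
  letI := Module.compHom (M.presheaf.stalk x) (X.presheaf.germ U x hxU).hom
  haveI := FlatLocus.isLocalizedModule_germL M hU x hxU
  letI : Algebra Γ(X, U) (X.presheaf.stalk x) := TopCat.Presheaf.algebra_section_stalk X.presheaf ⟨x, hxU⟩
  haveI := hU.isLocalization_stalk ⟨x, hxU⟩
  haveI : IsScalarTower Γ(X, U) (X.presheaf.stalk x) (M.presheaf.stalk x) := .of_algebraMap_smul fun _ _ => rfl
  obtain ⟨ε⟩ := RatPtSmooth.exists_equiv_chart f hV hU e hxU
  exact ⟨(IsLocalizedModule.isBaseChange (hU.primeIdealOf ⟨x, hxU⟩).asIdeal.primeCompl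
      (X.presheaf.stalk x) (FlatLocus.germL M U x hxU)).equiv.symm.trans
      ((E.symm.baseChange Γ(X, U) (X.presheaf.stalk x)).trans ε)⟩

/-- The differentials of a local ring of a morphism locally of finite type are finite. -/
theorem finite_kaehler (f : X ⟶ Y) [LocallyOfFiniteType f] (x : X) {W : Y.Opens} (hW : IsAffineOpen W) (hx : f x ∈ W) :
    letI := (baseAlg f x hx).toAlgebra
    Module.Finite (X.presheaf.stalk x) Ω[X.presheaf.stalk x⁄Γ(Y, W)] := by
  obtain ⟨_, ⟨U, hU, rfl⟩, hxU, hUV⟩ :=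
    X.isBasis_affineOpens.exists_subset_of_mem_open (a := x) hx (f ⁻¹ᵁ W).2
  have e : U ≤ f ⁻¹ᵁ W := hUV
  letI := (f.appLE W U e).hom.toAlgebra
  letI := (baseAlg f x hx).toAlgebra
  letI := (f.stalkMap x).hom.toAlgebra
  letI : Algebra Γ(X, U) (X.presheaf.stalk x) := TopCat.Presheaf.algebra_section_stalk X.presheaf ⟨x, hxU⟩
  haveI : Algebra.FiniteType Γ(Y, W) Γ(X, U) := f.finiteType_appLE hW hU e
  obtain ⟨ε⟩ := RatPtSmooth.exists_equiv_chart f hW hU e hxU
  obtain ⟨ε'⟩ := nonempty_equiv_base f x hW hx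
  exact Module.Finite.equiv (ε.trans ε'.symm)

/-- A point is outside the `p`-th Jacobian locus iff the differentials have fibre of dimension at most `p`. -/
theorem notMem_support_omega_iff (f : X ⟶ Y) [LocallyOfFiniteType f] [QuasiSeparated f] (p : ℕ) (x : X)
    {W : Y.Opens} (hW : IsAffineOpen W) (hx : f x ∈ W) :
    letI := (baseAlg f x hx).toAlgebra
    x ∉ (Fitt.sheafIdeal (Omega.sheaf f) p).support ↔
      Module.finrank (ResidueField (X.presheaf.stalk x))
        (ResidueField (X.presheaf.stalk x) ⊗[X.presheaf.stalk x] Ω[X.presheaf.stalk x⁄Γ(Y, W)]) ≤ p := by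
  letI := (baseAlg f x hx).toAlgebra
  letI := (f.stalkMap x).hom.toAlgebra
  haveI := OmegaAffLib.isQCoh_omega f
  haveI := finite_kaehler f x hW hx
  obtain ⟨η⟩ := nonempty_equiv_stalk f x
  obtain ⟨ε⟩ := nonempty_equiv_base f x hW hx
  rw [FittSheafLib.notMem_support_iff _ (FittSheafLib.isFT_omega f) p x, ← exists_span_iff_finrank_le]
  let e := η.trans ε.symm
  constructor
  · rintro ⟨g, hg⟩
    refine ⟨e ∘ g, ?_⟩
    have h := congrArg (Submodule.map e.toLinearMap) hg
    rwa [Submodule.map_span, Submodule.map_top, LinearEquiv.range, ← Set.range_comp] at h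
  · rintro ⟨g, hg⟩
    refine ⟨e.symm ∘ g, ?_⟩
    have h := congrArg (Submodule.map e.symm.toLinearMap) hg
    rwa [Submodule.map_span, Submodule.map_top, LinearEquiv.range, ← Set.range_comp] at h

/-- Smoothness at a point through sections of an affine open of the base. -/
theorem formallySmooth_iff_mem_smoothLocus (f : X ⟶ Y) [LocallyOfFinitePresentation f] (x : X) {W : Y.Opens}
    (hW : IsAffineOpen W) (hx : f x ∈ W) :
    letI := (baseAlg f x hx).toAlgebra
    Algebra.FormallySmooth Γ(Y, W) (X.presheaf.stalk x) ↔ x ∈ f.smoothLocus := by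
  letI := (baseAlg f x hx).toAlgebra
  rw [Scheme.Hom.mem_smoothLocus, SmoothRegLib.formallySmooth_stalkMap_iff_germ f x hW hx]
  exact Iff.rfl

/-- The differentials of a morphism smooth of relative dimension `m`. -/
theorem kaehler_data (m : ℕ) (π : X ⟶ Y) [SmoothOfRelativeDimension m π] (x : X) {W : Y.Opens}
    (hW : IsAffineOpen W) (hx : π x ∈ W) :
    letI := (baseAlg π x hx).toAlgebra
    Algebra.FormallySmooth Γ(Y, W) (X.presheaf.stalk x) ∧
      Module.Free (X.presheaf.stalk x) Ω[X.presheaf.stalk x⁄Γ(Y, W)] ∧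
      Module.Finite (X.presheaf.stalk x) Ω[X.presheaf.stalk x⁄Γ(Y, W)] ∧
      Module.finrank (X.presheaf.stalk x) Ω[X.presheaf.stalk x⁄Γ(Y, W)] = m := by
  letI := (baseAlg π x hx).toAlgebra
  letI := (π.stalkMap x).hom.toAlgebra
  haveI := SmoothOfRelativeDimension.smooth m π
  haveI hfs : Algebra.FormallySmooth Γ(Y, W) (X.presheaf.stalk x) :=
    (formallySmooth_iff_mem_smoothLocus π x hW hx).2 (by rw [Scheme.Hom.smoothLocus_eq_top]; trivial)
  haveI := finite_kaehler π x hW hx
  haveI : Module.Free (X.presheaf.stalk x) Ω[X.presheaf.stalk x⁄Γ(Y, W)] := Module.free_of_flat_of_isLocalRing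
  obtain ⟨ε⟩ := nonempty_equiv_base π x hW hx
  obtain ⟨V, hV, U, hU, hxU, e, hstd⟩ :=
    SmoothOfRelativeDimension.exists_isStandardSmoothOfRelativeDimension (n := m) (f := π) x
  exact ⟨hfs, inferInstance, inferInstance, ε.finrank_eq.trans (RatPtSmooth.finrank_of_std π hV hU e hxU m hstd)⟩

theorem baseAlg_congr {f g : X ⟶ Y} (h : f = g) (x : X) {W : Y.Opens} (hx : f x ∈ W) :
    baseAlg f x hx = baseAlg g x (h ▸ hx) := by
  subst h; rfl

theorem baseAlg_comp {Z : Scheme.{u}} (i : Z ⟶ X) (π : X ⟶ Y) (z : Z) {W : Y.Opens} (hz : (i ≫ π) z ∈ W) :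
    baseAlg (i ≫ π) z hz = (i.stalkMap z).hom.comp (baseAlg π (i z) hz) := by
  rw [baseAlg, baseAlg, Scheme.Hom.stalkMap_comp, ← CommRingCat.hom_comp]
  rfl

/-- The local presentation of an open of a scheme embedded in another one. -/
noncomputable def localMap {U : X.Opens} (i : U.toScheme ⟶ P) (u : U) :
    P.presheaf.stalk (i u) →+* X.presheaf.stalk (U.ι u) :=
  (i.stalkMap u ≫ inv (U.ι.stalkMap u)).hom

theorem localMap_comp {U : X.Opens} (f : X ⟶ Y) (i : U.toScheme ⟶ P) (π : P ⟶ Y) (h : i ≫ π = U.ι ≫ f) (u : U)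
    {W : Y.Opens} (hz : π (i u) ∈ W) (hz' : f (U.ι u) ∈ W) :
    (localMap i u).comp (baseAlg π (i u) hz) = baseAlg f (U.ι u) hz' := by
  have h1 := (baseAlg_comp i π u (W := W) hz).symm.trans ((baseAlg_congr h u hz).trans (baseAlg_comp U.ι f u _))
  rw [localMap, CommRingCat.hom_comp, RingHom.comp_assoc, h1, ← RingHom.comp_assoc, ← CommRingCat.hom_comp,
    IsIso.hom_inv_id]
  rfl

/-- The kernel of the local presentation of a closed subscheme cut out by a list. -/
theorem localMap_data {U : X.Opens} (i : U.toScheme ⟶ P) [IsImmersion i] (u : U) {V : P.Opens} (hV : IsAffineOpen V)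
    (hc : IsClosedImmersion (i ∣_ V)) (hu : i u ∈ V) (rs : List Γ(P, V))
    (hk : RingHom.ker (i.app V).hom = Ideal.ofList rs) :
    Function.Surjective (localMap i u) ∧ RingHom.ker (localMap i u) =
      Ideal.span (Set.range fun j : Fin rs.length => P.presheaf.germ V (i u) hu (rs.get j)) := by
  refine ⟨(ConcreteCategory.bijective_of_isIso (inv (U.ι.stalkMap u))).2.comp (i.stalkMap_surjective u), ?_⟩
  rw [localMap, CommRingCat.hom_comp,
    RingHom.ker_comp_of_injective _ (ConcreteCategory.bijective_of_isIso (inv (U.ι.stalkMap u))).1,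
    RegIdealLib.ker_stalkMap i hV hc u hu, hk, Ideal.map_ofList]
  refine congrArg Ideal.span (Set.ext fun a => ?_)
  rw [Set.mem_ofPred_eq, List.mem_map, Set.mem_range]
  exact ⟨fun ⟨_, hm, hb⟩ => (List.mem_iff_get.1 hm).elim fun j hj => ⟨j, hj.symm ▸ hb⟩,
    fun ⟨j, hj⟩ => ⟨_, List.get_mem rs j, hj⟩⟩

end Groth.Agent.JacLocusLib
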